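import Cfsg.Agent.Lib.Core.UniqueOrderP
import Cfsg.Agent.Lib.ZStar.Apps
import Cfsg.Agent.Lib.PGroups.Basic

/-!
Owner: helper16. Small facts on cyclic subgroups and on 2-groups with a central cyclic subgroup
of order at least four.
-/

set_option autoImplicit false
set_option linter.style.haveILetI false

namespace CfsgLib.CyclicInter

open Subgroup

variable {G : Type*} [Group G] [Finite G]

/-- Inside a cyclic subgroup, divisibility of orders gives containment. -/
theorem le_of_card_dvd {U A B : Subgroup G} (hU : IsCyclic U) (hA : A ≤ U) (hB : B ≤ U)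
    (h : Nat.card A ∣ Nat.card B) : A ≤ B := by
  classical
  intro a ha
  haveI := Fintype.ofFinite U
  let n := Nat.card B
  have hsub : (Finset.univ.filter fun x : U => (x : G) ∈ B) ⊆
      Finset.univ.filter fun x : U => x ^ n = 1 := fun x hx => by
    simp only [Finset.mem_filter, Finset.mem_univ, true_and] at hx ⊢
    exact Subtype.ext (orderOf_dvd_iff_pow_eq_one.mp (Subgroup.orderOf_dvd_natCard B hx))
  have hcard : (Finset.univ.filter fun x : U => (x : G) ∈ B).card = n := by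
    rw [← Fintype.card_subtype, ← Nat.card_eq_fintype_card]
    exact Nat.card_congr ⟨fun x => ⟨(x.1 : G), x.2⟩, fun b => ⟨⟨(b : G), hB b.2⟩, b.2⟩,
      fun x => rfl, fun b => rfl⟩
  have heq := Finset.eq_of_subset_of_card_le hsub
    ((IsCyclic.card_pow_eq_one_le (α := U) (Nat.card_pos (α := B))).trans hcard.ge)
  have hmem : (⟨a, hA ha⟩ : U) ∈ Finset.univ.filter fun x : U => x ^ n = 1 := by
    simp only [Finset.mem_filter, Finset.mem_univ, true_and]
    obtain ⟨c, hc⟩ := h
    refine Subtype.ext ?_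
    exact orderOf_dvd_iff_pow_eq_one.mp ((Subgroup.orderOf_dvd_natCard A ha).trans ⟨c, hc⟩)
  rw [← heq] at hmem
  simpa using hmem

/-- The subgroups of a cyclic 2-group form a chain. -/
theorem le_or_le {U A B : Subgroup G} (hU : IsCyclic U) (h2 : IsPGroup 2 U) (hA : A ≤ U) (hB : B ≤ U) :
    A ≤ B ∨ B ≤ A := by
  haveI : Fact (Nat.Prime 2) := ⟨Nat.prime_two⟩
  obtain ⟨i, hi⟩ := (h2.to_le hA).exists_card_eq
  obtain ⟨j, hj⟩ := (h2.to_le hB).exists_card_eq
  rcases le_total i j with h | h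
  · exact Or.inl (le_of_card_dvd hU hA hB (hi ▸ hj ▸ pow_dvd_pow 2 h))
  · exact Or.inr (le_of_card_dvd hU hB hA (hi ▸ hj ▸ pow_dvd_pow 2 h))

omit [Finite G] in
/-- A cyclic group has at most one involution. -/
theorem not_isCyclic_of_two_involutions {U : Subgroup G} {s t : G} (hs : s ∈ U) (ht : t ∈ U)
    (hs2 : orderOf s = 2) (ht2 : orderOf t = 2) (hne : s ≠ t) [Finite U] : ¬ IsCyclic U := by
  classical
  intro hc
  haveI := Fintype.ofFinite U
  have h1 : s ≠ 1 := fun e => by rw [e, orderOf_one] at hs2; omega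
  have h2 : t ≠ 1 := fun e => by rw [e, orderOf_one] at ht2; omega
  have hsub : ({1, ⟨s, hs⟩, ⟨t, ht⟩} : Finset U) ⊆ Finset.univ.filter fun x : U => x ^ 2 = 1 := by
    intro x hx
    simp only [Finset.mem_insert, Finset.mem_singleton] at hx
    simp only [Finset.mem_filter, Finset.mem_univ, true_and]
    rcases hx with rfl | rfl | rfl
    · simp
    · exact Subtype.ext (by simpa using hs2 ▸ pow_orderOf_eq_one s)
    · exact Subtype.ext (by simpa using ht2 ▸ pow_orderOf_eq_one t)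
  have h3 := (Finset.card_le_card hsub).trans (IsCyclic.card_pow_eq_one_le (α := U) two_pos)
  rw [Finset.card_eq_three.2 ⟨1, ⟨s, hs⟩, ⟨t, ht⟩, fun e => h1 (congrArg Subtype.val e).symm,
    fun e => h2 (congrArg Subtype.val e).symm, fun e => hne (congrArg Subtype.val e), rfl⟩] at h3
  omega

/-- A 2-group with a central element of order four and only one involution is cyclic. -/
theorem isCyclic_of_central_four {U : Subgroup G} (hU : IsPGroup 2 U) {c : G} (hcU : c ∈ U)
    (hcent : ∀ x ∈ U, x * c = c * x) (hc4 : c ^ 2 ≠ 1)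
    (huniq : ∀ s t : G, s ∈ U → t ∈ U → orderOf s = 2 → orderOf t = 2 → s = t) : IsCyclic U := by
  haveI : Fact (Nat.Prime 2) := ⟨Nat.prime_two⟩
  have hinv : ∀ H : Subgroup U, Nat.card H = 2 →
      ∃ x : U, orderOf x = 2 ∧ Subgroup.zpowers x = H := fun H hH => by
    obtain ⟨z, hz⟩ := exists_prime_orderOf_dvd_card' (G := H) 2 (hH ▸ dvd_rfl)
    refine ⟨z, by rw [Subgroup.orderOf_coe, hz], Subgroup.eq_of_le_of_card_ge
      (Subgroup.zpowers_le.mpr z.2) ?_⟩
    rw [hH, Nat.card_zpowers, Subgroup.orderOf_coe, hz]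
  have hu : ∀ H K : Subgroup U, Nat.card H = 2 → Nat.card K = 2 → H = K := fun H K hH hK => by
    obtain ⟨x, hx, rfl⟩ := hinv H hH
    obtain ⟨y, hy, rfl⟩ := hinv K hK
    rw [show x = y from Subtype.ext
      (huniq x y x.2 y.2 (by rw [Subgroup.orderOf_coe, hx]) (by rw [Subgroup.orderOf_coe, hy]))]
  rcases CfsgLib.Core.UniqueOrderP.isCyclic_or_quaternion_of_unique hU hu with h | ⟨-, n, ⟨e⟩⟩
  · exact h
  rcases Nat.eq_zero_or_pos n with rfl | hn
  · have : IsCyclic (QuaternionGroup (2 ^ 0)) := QuaternionGroup.quaternionGroup_one_isCyclic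
    exact isCyclic_of_surjective e.symm.toMonoidHom e.symm.surjective
  exfalso
  have hm : 2 ≤ 2 ^ n := le_self_pow₀ one_le_two hn.ne'
  have hc : ∀ w, w * e ⟨c, hcU⟩ = e ⟨c, hcU⟩ * w := fun w => by
    obtain ⟨u, rfl⟩ := e.surjective w
    rw [← map_mul, ← map_mul]
    exact congrArg e (Subtype.ext (hcent u u.2))
  have h2 : (⟨c, hcU⟩ : U) ^ 2 = 1 := e.injective (by
    rw [map_pow, map_one]
    rcases CfsgLib.ZStar.quaternion_center hm hc with h | h
    · rw [h, one_pow]
    · rw [h, pow_two, QuaternionGroup.a_mul_a, QuaternionGroup.one_def]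
      congr 1
      have := ZMod.natCast_self (2 * 2 ^ n)
      push_cast at this ⊢
      linear_combination this)
  exact hc4 (by simpa using congrArg Subtype.val h2)

/-- A 2-group with a central cyclic subgroup `Q` of order at least four and an involution outside
`Q` has an involution outside `Q` that is central modulo `Q`. -/
theorem exists_involution_central_mod {P : Type*} [Group P] [Finite P] (hP : IsPGroup 2 P)
    {Q : Subgroup P} [Q.Normal] (hQc : Q ≤ center P) (hQcyc : IsCyclic Q) {c : P} (hcQ : c ∈ Q) (hc : c ^ 2 ≠ 1)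
    (h : ∃ s, orderOf s = 2 ∧ s ∉ Q) :
    ∃ s, orderOf s = 2 ∧ s ∉ Q ∧ ∀ x, x * s * x⁻¹ * s⁻¹ ∈ Q := by
  classical
  haveI : Fact (Nat.Prime 2) := ⟨Nat.prime_two⟩
  let S : Set (Subgroup P) := {M | M.Normal ∧ Q ≤ M ∧ ∃ s ∈ M, orderOf s = 2 ∧ s ∉ Q}
  have hS : (⊤ : Subgroup P) ∈ S :=
    ⟨inferInstance, le_top, by obtain ⟨s, hs⟩ := h; exact ⟨s, mem_top _, hs⟩⟩
  obtain ⟨M, hM⟩ := (Set.toFinite S).exists_minimal ⟨_, hS⟩
  obtain ⟨hMn, hQM, s, hsM, hs2, hsQ⟩ := hM.1
  let T : Set (Subgroup P) := {N | N.Normal ∧ Q ≤ N ∧ N < M}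
  have hQM' : Q < M := lt_of_le_of_ne hQM fun e => hsQ (e ▸ hsM)
  obtain ⟨N, hN⟩ := (Set.toFinite T).exists_maximal ⟨Q, inferInstance, le_rfl, hQM'⟩
  obtain ⟨hNn, hQN, hNM⟩ := hN.1
  have hsmall : ∀ u ∈ N, orderOf u = 2 → u ∈ Q := fun u hu hu2 => by
    by_contra huQ
    exact hNM.not_ge (hM.2 ⟨hNn, hQN, u, hu, hu2, huQ⟩ hNM.le)
  -- `M / N` has order two
  let π := QuotientGroup.mk' N
  haveI : (M.map π).Normal := hMn.map π (QuotientGroup.mk'_surjective N)
  have hMne : M.map π ≠ ⊥ := fun e => hNM.not_ge fun x hx => by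
    have : π x ∈ M.map π := mem_map_of_mem π hx
    rw [e, mem_bot] at this
    exact (QuotientGroup.eq_one_iff x).mp this
  obtain ⟨w, hwM, hwc, hw2⟩ : ∃ w ∈ M.map π, w ∈ center (P ⧸ N) ∧ orderOf w = 2 := by
    have hne := CfsgLib.PGroups.inf_center_ne_bot (hP.to_quotient N) hMne
    obtain ⟨k, hk0, hk⟩ := ((hP.to_quotient N).to_subgroup _).nontrivial_iff_card.1
      ((M.map π ⊓ center (P ⧸ N)).nontrivial_iff_ne_bot.2 hne)
    obtain ⟨w, hw⟩ := exists_prime_orderOf_dvd_card'
      (G := (M.map π ⊓ center (P ⧸ N) : Subgroup (P ⧸ N))) 2 (hk ▸ dvd_pow_self 2 hk0.ne')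
    exact ⟨w, w.2.1, w.2.2, by rw [Subgroup.orderOf_coe, hw]⟩
  haveI : (zpowers w).Normal := ⟨fun x hx g => by
    rw [(mem_center_iff.mp (zpowers_le.mpr hwc hx) g), mul_inv_cancel_right]; exact hx⟩
  have hw0 : w ≠ 1 := fun e => by rw [e, orderOf_one] at hw2; omega
  have hMmap : M.map π = zpowers w := by
    have hker : π.ker = N := QuotientGroup.ker_mk' N
    have hKN : N < (zpowers w).comap π := by
      refine lt_of_le_of_ne (fun x hx => ?_) fun e => hw0 ?_
      · show π x ∈ zpowers w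
        rw [show π x = 1 from (QuotientGroup.eq_one_iff x).mpr hx]; exact one_mem _
      · obtain ⟨x, rfl⟩ := QuotientGroup.mk'_surjective N w
        have : x ∈ (zpowers (π x)).comap π := mem_zpowers (π x)
        rw [← e] at this
        exact (QuotientGroup.eq_one_iff x).mpr this
    have hKM : (zpowers w).comap π ≤ M := fun x hx => by
      have h1 : π x ∈ M.map π := (zpowers_le.mpr hwM) hx
      have h2 : x ∈ (M.map π).comap π := h1
      rwa [Subgroup.comap_map_eq, hker, sup_eq_left.mpr hNM.le] at h2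
    have hKeq : (zpowers w).comap π = M := by
      by_contra hne
      exact hKN.not_ge (hN.2 ⟨inferInstance, hQN.trans hKN.le, lt_of_le_of_ne hKM hne⟩ hKN.le)
    conv_lhs => rw [← hKeq]
    rw [Subgroup.map_comap_eq_self_of_surjective (QuotientGroup.mk'_surjective N)]
  have hdiv : ∀ m ∈ M, m ∉ N → π m = w := fun m hm hmN => by
    have h1 : π m ∈ zpowers w := hMmap ▸ mem_map_of_mem π hm
    obtain ⟨i, hi⟩ := mem_zpowers_iff.mp h1
    rcases Int.emod_two_eq_zero_or_one i with hi2 | hi2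
    · refine absurd ((QuotientGroup.eq_one_iff m).mp ?_) hmN
      show π m = 1
      rw [← hi, ← zpow_mod_orderOf, hw2]
      simp [hi2]
    · rw [← hi, ← zpow_mod_orderOf, hw2]
      simp [hi2]
  have hcN := hQN hcQ
  have hNcyc : IsCyclic N := isCyclic_of_central_four (hP.to_subgroup N) hcN
    (fun x _ => mem_center_iff.mp (hQc hcQ) x) hc fun u v hu hv hu2 hv2 => by
      by_contra hne
      exact not_isCyclic_of_two_involutions (hsmall u hu hu2) (hsmall v hv hv2) hu2 hv2 hne
        hQcyc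
  have hsN : s ∉ N := fun hn => hsQ (hsmall s hn hs2)
  refine ⟨s, hs2, hsQ, fun x => ?_⟩
  set a := x * s * x⁻¹ * s⁻¹ with ha
  have hxs : x * s * x⁻¹ ∉ N := fun hn => hsN (by simpa [mul_assoc] using hNn.conj_mem _ hn x⁻¹)
  have haN : a ∈ N := by
    refine (QuotientGroup.eq_one_iff a).mp ?_
    show π a = 1
    rw [ha, map_mul, map_inv, hdiv _ (hMn.conj_mem s hsM x) hxs, hdiv s hsM hsN, mul_inv_cancel]
  have hss : s * s = 1 := by rw [← pow_two, ← hs2]; exact pow_orderOf_eq_one s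
  have hinv : s * a * s⁻¹ = a⁻¹ := by
    have h1 : (a * s) * (a * s) = 1 := by
      rw [show a * s = x * s * x⁻¹ from by rw [ha]; group]
      rw [show x * s * x⁻¹ * (x * s * x⁻¹) = x * (s * s) * x⁻¹ from by group, hss]; group
    refine eq_inv_of_mul_eq_one_right ?_
    rw [inv_eq_of_mul_eq_one_right hss, ← h1]; group
  by_contra haQ
  rcases le_or_le hNcyc (hP.to_subgroup N) (zpowers_le.mpr hcN) (zpowers_le.mpr haN) with h | h
  · obtain ⟨i, hi⟩ := mem_zpowers_iff.mp (h (mem_zpowers c))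
    have h1 : s * c * s⁻¹ = c⁻¹ := by rw [← hi, ← conj_zpow, hinv, inv_zpow]
    rw [mem_center_iff.mp (hQc hcQ) s, mul_inv_cancel_right] at h1
    exact hc (by rw [pow_two]; nth_rewrite 2 [h1]; rw [mul_inv_cancel])
  · exact haQ (zpowers_le.mpr hcQ (h (mem_zpowers a)))

end CfsgLib.CyclicInter
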