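import Cfsg.Agent.Lib.Invol.CyclicInter.Main

/-!
Owner: helper16. The centrality of `O₂` when Sylow 2-subgroups meet in cyclic groups.
-/

set_option autoImplicit false
set_option linter.style.haveILetI false
set_option linter.unusedSectionVars false

namespace CfsgLib.CyclicInter

open Subgroup CfsgLib.Signalizer

universe u

variable {H : Type u} [Group H] [Finite H]

local notation "Q" => Cfsg.pCore 2 H
local notation "C" => Subgroup.centralizer ((Cfsg.pCore 2 H : Subgroup H) : Set H)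

namespace Data

variable (D : Data H)
include D

theorem Q_le_C : (Q : Subgroup H) ≤ C := fun q hq => mem_centralizer_iff.mpr fun r hr => by
  haveI := D.Q_cyclic
  exact congrArg Subtype.val (IsMulCommutative.is_comm.comm
    (⟨r, hr⟩ : (Q : Subgroup H)) ⟨q, hq⟩)

theorem exists_involution (T : Sylow 2 H) : ∃ s ∈ (T : Subgroup H) ⊓ C, orderOf s = 2 ∧ s ∉ Q := by
  haveI : Fact (Nat.Prime 2) := ⟨Nat.prime_two⟩
  by_contra hno
  push Not at hno
  obtain ⟨c, hcQ, hc⟩ := D.exists_four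
  obtain ⟨z, hzQ, hz⟩ := D.exists_z
  set P : Subgroup H := (T : Subgroup H) ⊓ C with hP
  have hPc : IsCyclic P := isCyclic_of_central_four (T.isPGroup'.to_le inf_le_left)
    (⟨Q_le T hcQ, D.Q_le_C hcQ⟩ : c ∈ P) (fun x hx => (mem_centralizer_iff.mp hx.2 c hcQ).symm) hc
    fun s t hs ht hs2 ht2 => by
      by_contra hne
      exact not_isCyclic_of_two_involutions (hno s hs hs2) (hno t ht ht2) hs2 ht2 hne D.Q_cyclic
  let P' : Subgroup (C : Subgroup H) := P.subgroupOf C
  have hP'p : IsPGroup 2 P' :=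
    (T.isPGroup'.to_le inf_le_left).of_equiv (Subgroup.subgroupOfEquivOfLe inf_le_right).symm
  have hidx : ¬ 2 ∣ P'.index := fun h => T.not_dvd_index (h.trans (by
    obtain ⟨r, hr⟩ := relIndex_dvd_index_of_normal C (T : Subgroup H)
    have h1 : P.relIndex C * (C : Subgroup H).index = P.index := relIndex_mul_index inf_le_right
    have h2 : P.relIndex (T : Subgroup H) * (T : Subgroup H).index = P.index :=
      relIndex_mul_index inf_le_left
    rw [show P.relIndex (T : Subgroup H) = (C : Subgroup H).relIndex (T : Subgroup H) from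
      inf_relIndex_left _ _] at h2
    rw [hr, ← h2] at h1
    have hpos : 0 < (C : Subgroup H).relIndex (T : Subgroup H) :=
      Nat.pos_of_ne_zero Subgroup.index_ne_zero_of_finite
    show P.relIndex C ∣ _
    exact ⟨r, (Nat.eq_of_mul_eq_mul_left hpos (by rw [← h1]; ring))⟩))
  let PS : Sylow 2 (C : Subgroup H) := hP'p.toSylow hidx
  have hPS : IsCyclic PS := by
    show IsCyclic P'
    exact isCyclic_of_surjective (Subgroup.subgroupOfEquivOfLe (H := P) (K := C) inf_le_right).symm.toMonoidHom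
      (Subgroup.subgroupOfEquivOfLe inf_le_right).symm.surjective
  have heven : 2 ∣ Nat.card (C : Subgroup H) :=
    hz.symm.dvd.trans (Subgroup.orderOf_dvd_natCard _ (D.Q_le_C hzQ))
  have hmin : (Nat.card (C : Subgroup H)).minFac = 2 := (Nat.minFac_eq_two_iff _).mpr heven
  let f := MonoidHom.transferSylow PS (hPS.normalizer_le_centralizer hmin)
  have hK : ∀ g : H, ∀ hg : g ∈ C, Odd (orderOf g) → (⟨g, hg⟩ : (C : Subgroup H)) ∈ f.ker := by
    intro g hg ho
    rw [MonoidHom.mem_ker, ← orderOf_eq_one_iff]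
    obtain ⟨j, hj⟩ := IsPGroup.iff_orderOf.mp PS.isPGroup' (f ⟨g, hg⟩)
    rcases Nat.eq_zero_or_pos j with rfl | hj0
    · simpa using hj
    · have := (hj ▸ dvd_pow_self 2 hj0.ne' : 2 ∣ orderOf (f ⟨g, hg⟩)).trans (orderOf_map_dvd f _)
      rw [Subgroup.orderOf_mk] at this
      exact absurd this (by rw [← even_iff_two_dvd, Nat.not_even_iff_odd]; exact ho)
  have hodd : Odd (Nat.card f.ker) := by
    rw [← Nat.not_even_iff_odd, even_iff_two_dvd]
    exact MonoidHom.not_dvd_card_ker_transferSylow PS (hPS.normalizer_le_centralizer hmin)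
  haveI hn : (f.ker.map (C : Subgroup H).subtype).Normal := ⟨fun x hx g => by
    obtain ⟨k, hk, rfl⟩ := hx
    refine ⟨⟨_, (inferInstance : (C : Subgroup H).Normal).conj_mem _ k.2 g⟩, hK _ _ ?_, rfl⟩
    rw [Signalizer.orderOf_conj, Subgroup.orderOf_coe, ← Subgroup.orderOf_mk (H := f.ker) k hk]
    exact CfsgLib.ZStar.odd_of_dvd (orderOf_dvd_natCard _) hodd⟩
  have hbot := CfsgLib.ZStar.le_oddCore hn (by
    rw [Subgroup.card_map_of_injective (Subgroup.subtype_injective _)]; exact hodd)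
  rw [D.core, le_bot_iff, Subgroup.map_eq_bot_iff_of_injective _ (Subgroup.subtype_injective _)] at hbot
  have h2 : IsPGroup 2 H := IsPGroup.iff_orderOf.mpr fun g => by
    obtain ⟨k, m, hm, hkm⟩ := Nat.exists_eq_pow_mul_and_not_dvd (orderOf_pos g).ne' 2 (by norm_num)
    have hm' : Odd m := by rw [← Nat.not_even_iff_odd, even_iff_two_dvd]; exact hm
    have ho : orderOf (g ^ 2 ^ k) ∣ m := orderOf_dvd_of_pow_eq_one (by
      rw [← pow_mul, ← hkm, pow_orderOf_eq_one])
    have hoo := CfsgLib.ZStar.odd_of_dvd ho hm'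
    have hmem := hK _ (D.odd_mem_C hoo) hoo
    rw [hbot, mem_bot] at hmem
    have h1 : g ^ 2 ^ k = 1 := congrArg Subtype.val hmem
    obtain ⟨i, -, hi⟩ := (Nat.dvd_prime_pow Nat.prime_two).mp (orderOf_dvd_of_pow_eq_one h1)
    exact ⟨i, hi⟩
  haveI := h2.isNilpotent
  exact D.ns inferInstance

theorem exists_good (T : Sylow 2 H) : ∃ s ∈ (T : Subgroup H) ⊓ C, orderOf s = 2 ∧ s ∉ Q ∧
    ∀ x ∈ (T : Subgroup H) ⊓ C, x * s * x⁻¹ * s⁻¹ ∈ Q := by
  set P : Subgroup H := (T : Subgroup H) ⊓ C with hP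
  have hQP : (Q : Subgroup H) ≤ P := le_inf (Q_le T) D.Q_le_C
  obtain ⟨c, hcQ, hc⟩ := D.exists_four
  obtain ⟨s, hs, hs2, hsQ⟩ := D.exists_involution T
  have hcyc : IsCyclic ((Q : Subgroup H).subgroupOf P) := by
    haveI := D.Q_cyclic
    exact isCyclic_of_surjective (Subgroup.subgroupOfEquivOfLe hQP).symm.toMonoidHom
      (Subgroup.subgroupOfEquivOfLe hQP).symm.surjective
  obtain ⟨s', h2', hsQ', h'⟩ := exists_involution_central_mod (P := P) (T.isPGroup'.to_le inf_le_left)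
    (fun q (hq : q ∈ (Q : Subgroup H).subgroupOf P) => mem_center_iff.mpr fun x => Subtype.ext (mem_centralizer_iff.mp x.2.2 (q : H) hq).symm)
    hcyc (c := ⟨c, hQP hcQ⟩) hcQ (fun e => hc (by simpa using congrArg Subtype.val e))
    ⟨⟨s, hs⟩, by rw [Subgroup.orderOf_mk, hs2], hsQ⟩
  exact ⟨s', s'.2, by rw [Subgroup.orderOf_coe, h2'], hsQ', fun x hx => h' ⟨x, hx⟩⟩

/-- Conjugacy modulo `Q` of involutions in different Sylow subgroups. -/
theorem conj_mod {a b : H} (ha : orderOf a = 2) (haQ : a ∉ Q) (haC : a ∈ C)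
    (hb : orderOf b = 2) (hbQ : b ∉ Q) (hbC : b ∈ C) {T T' : Sylow 2 H} (haT : a ∈ T) (hbT : b ∈ T')
    (hne : T ≠ T') : ∃ u ∈ C, QuotientGroup.mk' (Q : Subgroup H) (u * a * u⁻¹) =
      QuotientGroup.mk' (Q : Subgroup H) b := by
  let π := QuotientGroup.mk' (Q : Subgroup H)
  obtain ⟨m, hm⟩ := D.odd_prod ha haQ haC hb hbQ hbC haT hbT hne
  refine ⟨(a * b) ^ m, pow_mem (mul_mem haC hbC) m, ?_⟩
  have ha1 : π a * π a = 1 := by rw [← map_mul, Signalizer.involution_sq ha, map_one]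
  have hia : (π a)⁻¹ = π a := inv_eq_of_mul_eq_one_right ha1
  set d := π (a * b) with hd
  have hb1 : π b * π b = 1 := by rw [← map_mul, Signalizer.involution_sq hb, map_one]
  have hda : π a * d⁻¹ * (π a)⁻¹ = d := by
    rw [hd, map_mul, mul_inv_rev, inv_eq_of_mul_eq_one_right hb1, hia, mul_assoc, mul_assoc,
      ha1, mul_one]
  have h1 : π a * (d ^ m)⁻¹ = d ^ m * π a := by
    rw [← inv_pow]
    nth_rewrite 2 [← hda]
    rw [conj_pow, inv_mul_cancel_right]
  have h2 : d ^ (m + m) * d = 1 := by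
    rw [← pow_succ, show m + m + 1 = orderOf d by omega, pow_orderOf_eq_one]
  show π ((a * b) ^ m * a * ((a * b) ^ m)⁻¹) = π b
  rw [map_mul, map_mul, map_inv, map_pow, ← hd, mul_assoc, h1, ← mul_assoc, ← pow_add,
    eq_inv_of_mul_eq_one_left h2, hd, map_mul, mul_inv_rev, hia, inv_eq_of_mul_eq_one_right hb1,
    mul_assoc, ha1, mul_one]

theorem fixes_sylow {T : Sylow 2 H} {u a w : H} (ha : orderOf a = 2) (haQ : a ∉ Q) (haT : a ∈ T)
    (hwT : w ∈ T) (h : QuotientGroup.mk' (Q : Subgroup H) (u * a * u⁻¹) =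
      QuotientGroup.mk' (Q : Subgroup H) w) : u • T = T := by
  refine D.sylow_eq (s := u * a * u⁻¹) (by rw [Signalizer.orderOf_conj, ha]) (fun hh => haQ ?_)
    (mem_smul_sylow haT u) ?_
  · simpa [mul_assoc] using (inferInstance : (Q : Subgroup H).Normal).conj_mem _ hh u⁻¹
  · have h1 : w⁻¹ * (u * a * u⁻¹) ∈ Q := (QuotientGroup.eq_one_iff _).mp (by
      show QuotientGroup.mk' (Q : Subgroup H) (w⁻¹ * (u * a * u⁻¹)) = 1
      rw [map_mul, map_inv, h, inv_mul_cancel])
    show u * a * u⁻¹ ∈ (T : Subgroup H)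
    simpa [mul_assoc] using mul_mem (show w ∈ (T : Subgroup H) from hwT) (Q_le T h1)

/-- No involution of `(T ∩ C) \ Q` commutes with a complement of `T` in its normaliser. -/
theorem no_fixed {T : Sylow 2 H} {L : Subgroup H} (hLC : L ≤ C)
    (hN : ∀ u ∈ normalizer (T : Set H), ∃ τ ∈ (T : Subgroup H), ∃ l ∈ L, u = τ * l)
    (hLN : L ≤ normalizer (T : Set H))
    {w : H} (hw : w ∈ (T : Subgroup H) ⊓ C) (hw2 : orderOf w = 2) (hwQ : w ∉ Q)
    (hwL : ∀ l ∈ L, l * w = w * l) : False := by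
  haveI : Fact (Nat.Prime 2) := ⟨Nat.prime_two⟩
  let π := QuotientGroup.mk' (Q : Subgroup H)
  obtain ⟨s, hs, hs2, hsQ, hsc⟩ := D.exists_good T
  obtain ⟨T', hne⟩ := D.exists_ne T
  obtain ⟨g, rfl⟩ := MulAction.exists_smul_eq H T T'
  have ht2 : orderOf (g * s * g⁻¹) = 2 := by rw [Signalizer.orderOf_conj, hs2]
  have htC : g * s * g⁻¹ ∈ C := (inferInstance : (C : Subgroup H).Normal).conj_mem s hs.2 g
  have htQ : g * s * g⁻¹ ∉ Q := fun h => hsQ (by
    simpa [mul_assoc] using (inferInstance : (Q : Subgroup H).Normal).conj_mem _ h g⁻¹)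
  have htT : g * s * g⁻¹ ∈ g • T := mem_smul_sylow hs.1 g
  obtain ⟨u1, hu1, e1⟩ := D.conj_mod hs2 hsQ hs.2 ht2 htQ htC hs.1 htT (Ne.symm hne)
  obtain ⟨u2, hu2, e2⟩ := D.conj_mod ht2 htQ htC hw2 hwQ hw.2 htT hw.1 hne
  set u := u2 * u1 with hu
  have e : π (u * s * u⁻¹) = π w := by
    have h1 : u * s * u⁻¹ = u2 * (u1 * s * u1⁻¹) * u2⁻¹ := by rw [hu]; group
    rw [h1, map_mul, map_mul]
    show π u2 * π (u1 * s * u1⁻¹) * π u2⁻¹ = _
    rw [show π (u1 * s * u1⁻¹) = π (g * s * g⁻¹) from e1, ← map_mul, ← map_mul]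
    exact e2
  have hfix : ∀ v ∈ C, v • T = T → ∃ τ ∈ (T : Subgroup H) ⊓ C, ∃ l ∈ L, v = τ * l := fun v hv hvT => by
    obtain ⟨τ, hτ, l, hl, rfl⟩ := hN v (mem_normalizer_sylow hvT)
    exact ⟨τ, ⟨hτ, by simpa using mul_mem hv (inv_mem (hLC hl))⟩, l, hl, rfl⟩
  have hsmod : ∀ x ∈ (T : Subgroup H) ⊓ C, π (x * s * x⁻¹) = π s := fun x hx => by
    have h1 : π (x * s * x⁻¹ * s⁻¹) = 1 := (QuotientGroup.eq_one_iff _).mpr (hsc x hx)
    rwa [map_mul, map_inv, mul_inv_eq_one] at h1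
  have hws : π w = π s := by
    obtain ⟨τ, hτ, l, hl, hτl⟩ := hfix u (mul_mem hu2 hu1) (D.fixes_sylow hs2 hsQ hs.1 hw.1 e)
    have hτ' : l⁻¹ * τ * l ∈ (T : Subgroup H) ⊓ C := ⟨by
      have hlN : l⁻¹ ∈ normalizer (T : Set H) := inv_mem (hLN hl)
      have := (mem_normalizer_iff.mp hlN τ).mp hτ.1
      show l⁻¹ * τ * l ∈ (T : Subgroup H)
      simpa using this, mul_mem (mul_mem ((C : Subgroup H).inv_mem (hLC hl)) hτ.2) (hLC hl)⟩
    have h1 : π (l * s * l⁻¹) = π w := by
      rw [← e, hτl, show τ * l * s * (τ * l)⁻¹ =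
        l * ((l⁻¹ * τ * l) * s * (l⁻¹ * τ * l)⁻¹) * l⁻¹ from by group]
      calc π (l * s * l⁻¹) = π l * π s * π l⁻¹ := by rw [map_mul, map_mul]
        _ = π l * π ((l⁻¹ * τ * l) * s * (l⁻¹ * τ * l)⁻¹) * π l⁻¹ := by rw [hsmod _ hτ']
        _ = _ := by rw [← map_mul, ← map_mul]
    have h2 : l⁻¹ * w * l = w := by rw [mul_assoc, ← hwL l hl, inv_mul_cancel_left]
    rw [← h2, map_mul, map_mul, ← h1, ← map_mul, ← map_mul]
    congr 1
    group
  have hwmod : ∀ v ∈ C, v • T = T → π (v * w * v⁻¹) = π w := fun v hv hvT => by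
    obtain ⟨τ, hτ, l, hl, rfl⟩ := hfix v hv hvT
    rw [show τ * l * w * (τ * l)⁻¹ = τ * (l * w * l⁻¹) * τ⁻¹ from by group, hwL l hl,
      mul_inv_cancel_right, map_mul, map_mul, hws, ← map_mul, ← map_mul]
    exact hsmod τ hτ
  -- Glauberman's theorem in `C / Q`
  let K : Subgroup (H ⧸ (Q : Subgroup H)) := (C : Subgroup H).map π
  haveI : K.Normal := (inferInstance : (C : Subgroup H).Normal).map π (QuotientGroup.mk'_surjective _)
  have hu0 : orderOf (π w) = 2 := orderOf_eq_prime (by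
    rw [pow_two, ← map_mul, Signalizer.involution_sq hw2, map_one])
    (fun h => hwQ ((QuotientGroup.eq_one_iff w).mp h))
  let u0 : K := ⟨π w, mem_map_of_mem π hw.2⟩
  have hodd : ∀ k : K, Odd (orderOf (u0 * k * u0⁻¹ * k⁻¹)) := by
    rintro ⟨_, v, hv, rfl⟩
    rw [← Subgroup.orderOf_coe]
    show Odd (orderOf (π w * π v * (π w)⁻¹ * (π v)⁻¹))
    have h1 : π w * π v * (π w)⁻¹ * (π v)⁻¹ = π (w * (v * w * v⁻¹)) := by
      rw [Signalizer.involution_inv hu0]
      simp [mul_assoc]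
    rw [h1]
    by_cases hvT : v • T = T
    · rw [map_mul, hwmod v hv hvT, ← map_mul, Signalizer.involution_sq hw2, map_one, orderOf_one]
      exact odd_one
    · exact D.odd_prod hw2 hwQ hw.2 (by rw [Signalizer.orderOf_conj, hw2])
        (fun h => hwQ (by
          simpa [mul_assoc] using (inferInstance : (Q : Subgroup H).Normal).conj_mem _ h v⁻¹))
        ((inferInstance : (C : Subgroup H).Normal).conj_mem w hw.2 v) hw.1 (mem_smul_sylow hw.1 v)
        (Ne.symm hvT)
  have hcore : Cfsg.oddCore K = ⊥ := by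
    haveI : (Cfsg.oddCore K).Characteristic := CfsgLib.Core.characteristic_pPrimeCore 2 K
    set M₀ : Subgroup (H ⧸ (Q : Subgroup H)) := (Cfsg.oddCore K).map K.subtype with hM₀
    haveI : M₀.Normal := inferInstance
    have hodd0 : Odd (Nat.card M₀) := by
      rw [hM₀, Subgroup.card_map_of_injective K.subtype_injective]
      exact CfsgLib.ZStar.odd_card_oddCore K
    have hQM : (Q : Subgroup H) ≤ M₀.comap π := fun q hq => by
      show π q ∈ M₀
      rw [show π q = 1 from (QuotientGroup.eq_one_iff q).mpr hq]; exact one_mem _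
    haveI hsolM₀ := D.odd _ hodd0
    haveI : IsCyclic (Q : Subgroup H) := D.Q_cyclic
    have hsol : Group.IsSolvable (M₀.comap π) :=
      Group.isSolvable_of_ker_le_range (Subgroup.inclusion hQM) (π.subgroupComap M₀) (by
        intro x hx
        exact ⟨⟨x, (QuotientGroup.eq_one_iff _).mp (congrArg Subtype.val hx)⟩, rfl⟩)
    have hle := D.solvable_le (M₀.comap π) inferInstance hsol
    have hb : M₀ = ⊥ := by
      rw [eq_bot_iff]
      intro y hy
      obtain ⟨x, rfl⟩ := QuotientGroup.mk'_surjective _ y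
      exact (QuotientGroup.eq_one_iff x).mpr (hle hy)
    exact (Subgroup.map_eq_bot_iff_of_injective _ K.subtype_injective).mp hb
  have hcen : ∀ v ∈ C, v • T = T := fun v hv => by
    have h1 := CfsgLib.ZStar.mem_oddCore_of_odd_commutator (u := u0)
      (by rw [← Subgroup.orderOf_coe]; exact hu0) hodd ⟨π v, mem_map_of_mem π hv⟩
    rw [hcore, mem_bot] at h1
    have h2 : π w * π v * (π w)⁻¹ * (π v)⁻¹ = 1 := congrArg Subtype.val h1
    refine D.fixes_sylow hw2 hwQ hw.1 hw.1 ?_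
    show π (v * w * v⁻¹) = π w
    rw [mul_inv_eq_one, mul_inv_eq_iff_eq_mul] at h2
    rw [map_mul, map_mul, map_inv, mul_inv_eq_iff_eq_mul]
    exact h2.symm
  have htop : normalizer (T : Set H) = ⊤ := D.eq_top_of_le (T := T)
    (fun v hv => mem_normalizer_sylow (hcen v hv)) (fun x hx => le_normalizer hx)
  exact hne (Sylow.smul_eq_iff_mem_normalizer.mpr (htop ▸ mem_top g))

theorem false : False := by
  haveI : Fact (Nat.Prime 2) := ⟨Nat.prime_two⟩
  obtain ⟨T⟩ : Nonempty (Sylow 2 H) := inferInstance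
  set N := normalizer (T : Set H) with hNdef
  set T0 : Subgroup N := (T : Subgroup H).subgroupOf N with hT0
  haveI : T0.Normal := Subgroup.normal_in_normalizer
  have hTle : (T : Subgroup H) ≤ N := fun x hx => le_normalizer hx
  have hcop : Nat.Coprime (Nat.card T0) T0.index := by
    rw [Nat.card_congr (Subgroup.subgroupOfEquivOfLe hTle).toEquiv]
    obtain ⟨k, hk⟩ := T.isPGroup'.exists_card_eq
    rw [hk]
    refine Nat.Coprime.pow_left _ ((Nat.prime_two.coprime_iff_not_dvd).mpr fun h => T.not_dvd_index ?_)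
    exact h.trans (Subgroup.relIndex_dvd_index_of_le hTle)
  obtain ⟨L0, hL0⟩ := Subgroup.exists_right_complement'_of_coprime hcop
  set L := L0.map N.subtype with hL
  have hLN : L ≤ N := Subgroup.map_subtype_le L0
  have hN : ∀ u ∈ N, ∃ τ ∈ (T : Subgroup H), ∃ l ∈ L, u = τ * l := fun u hu => by
    obtain ⟨⟨⟨t, ht⟩, ⟨l, hl⟩⟩, h⟩ := hL0.2 ⟨u, hu⟩
    exact ⟨t, ht, l, mem_map_of_mem _ hl, (congrArg Subtype.val h).symm⟩
  have hcardL : Odd (Nat.card L) := by
    rw [hL, Subgroup.card_map_of_injective N.subtype_injective, ← hL0.symm.index_eq_card,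
      ← Nat.not_even_iff_odd, even_iff_two_dvd]
    exact fun h => T.not_dvd_index (h.trans (Subgroup.relIndex_dvd_index_of_le hTle))
  have hLC : L ≤ C := fun l hl =>
    D.odd_mem_C (CfsgLib.ZStar.odd_of_dvd (Subgroup.orderOf_dvd_natCard L hl) hcardL)
  -- a 2-element outside `C` commuting with `L`
  obtain ⟨k, hkT, hkC⟩ : ∃ k, k ∈ (T : Subgroup H) ∧ k ∉ C := by
    by_contra h
    push Not at h
    exact D.C_ne_top (D.eq_top_of_le (T := T) le_rfl h)
  set P : Subgroup H := (T : Subgroup H) ⊓ C with hP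
  have hLP : L ≤ normalizer (P : Set H) := fun l hl => mem_normalizer_iff.mpr fun x => by
    have h1 := mem_normalizer_iff.mp (hLN hl) x
    exact ⟨fun hx => ⟨h1.mp hx.1, (inferInstance : (C : Subgroup H).Normal).conj_mem x hx.2 l⟩,
      fun hx => ⟨h1.mpr hx.1, by
        simpa [mul_assoc] using (inferInstance : (C : Subgroup H).Normal).conj_mem _ hx.2 l⁻¹⟩⟩
  have hPp : IsPGroup 2 P := T.isPGroup'.to_le inf_le_left
  haveI := hPp.isNilpotent
  obtain ⟨n, hn, hc⟩ := CfsgLib.Core.exists_centralizing_in_coset (k := k) hLP (by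
      obtain ⟨j, hj⟩ := hPp.exists_card_eq
      rw [hj]
      exact (Nat.coprime_two_right.mpr hcardL).pow_right j)
    (Or.inr inferInstance) (fun a ha => ⟨mul_mem (inv_mem hkT : k⁻¹ ∈ (T : Subgroup H))
      (show a * k * a⁻¹ ∈ (T : Subgroup H) from (mem_normalizer_iff.mp (hLN ha) k).mp hkT),
      by
        have : k⁻¹ * (a * k * a⁻¹) = (k⁻¹ * a * k) * a⁻¹ := by group
        rw [this]
        exact mul_mem (by simpa using (inferInstance : (C : Subgroup H).Normal).conj_mem a (hLC ha) k⁻¹)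
          ((C : Subgroup H).inv_mem (hLC ha))⟩)
  set c := k * n with hcdef
  have hcT : c ∈ (T : Subgroup H) := mul_mem hkT hn.1
  have hcC : c ∉ C := fun h => hkC (by
    simpa [hcdef] using mul_mem h (inv_mem hn.2 : n⁻¹ ∈ C))
  -- choose the last power outside `C`
  obtain ⟨i, hi⟩ := IsPGroup.iff_orderOf.mp T.isPGroup' ⟨c, hcT⟩
  rw [Subgroup.orderOf_mk] at hi
  classical
  have hex : ∃ j, c ^ 2 ^ j ∈ C := ⟨i, by rw [← hi, pow_orderOf_eq_one]; exact one_mem _⟩
  obtain ⟨j, hj⟩ : ∃ j, Nat.find hex = j + 1 := by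
    refine ⟨Nat.find hex - 1, ?_⟩
    have : Nat.find hex ≠ 0 := fun h => hcC (by simpa [h] using Nat.find_spec hex)
    omega
  set y := c ^ 2 ^ j with hy
  have hyC : y ∉ C := Nat.find_min hex (by omega : j < Nat.find hex)
  have hy2C : y ^ 2 ∈ C := by
    rw [hy, ← pow_mul, ← pow_succ, ← hj]
    exact Nat.find_spec hex
  have hyL : y ∈ centralizer (L : Set H) := pow_mem hc _
  -- `W` is cyclic
  set W : Subgroup H := P ⊓ centralizer (L : Set H) with hW
  have hQW : (Q : Subgroup H) ≤ W := le_inf (le_inf (Q_le T) D.Q_le_C) fun q hq =>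
    mem_centralizer_iff.mpr fun l hl => (mem_centralizer_iff.mp (hLC hl) q hq).symm
  have hWinv : ∀ w ∈ W, orderOf w = 2 → w ∈ Q := fun w hw hw2 => by
    by_contra hwQ
    exact D.no_fixed hLC hN hLN hw.1 hw2 hwQ fun l hl => mem_centralizer_iff.mp hw.2 l hl
  obtain ⟨c4, hc4Q, hc4⟩ := D.exists_four
  have hWp : IsPGroup 2 W := hPp.to_le inf_le_left
  have hWc : IsCyclic W := isCyclic_of_central_four hWp (hQW hc4Q)
    (fun x hx => (mem_centralizer_iff.mp hx.1.2 c4 hc4Q).symm) hc4 fun s t hs ht hs2 ht2 => by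
      by_contra hne
      exact not_isCyclic_of_two_involutions (hWinv s hs hs2) (hWinv t ht ht2) hs2 ht2 hne D.Q_cyclic
  have hy2W : y ^ 2 ∈ W := ⟨⟨pow_mem (pow_mem hcT _) 2, hy2C⟩, pow_mem hyL 2⟩
  obtain ⟨s, hs, hs2, hsQ⟩ := D.exists_involution T
  rcases le_or_le hWc hWp hQW (zpowers_le.mpr hy2W) with h | h
  · refine hyC (mem_centralizer_iff.mpr fun q hq => ?_)
    obtain ⟨m, hm⟩ := mem_zpowers_iff.mp (h hq)
    rw [← hm]
    exact ((Commute.refl y).pow_left 2).zpow_left m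
  · exact D.no_square hs2 hsQ hs.2 hyC (h (mem_zpowers _))

end Data

/-- A solvable normal subgroup is a central cyclic 2-group. -/
theorem radical (S : Setup H) (N : Subgroup H) [N.Normal] (hN : Group.IsSolvable N) :
    IsCyclic N ∧ IsPGroup 2 N ∧ N ≤ center H := by
  have h := S.solvable_le N inferInstance hN
  haveI := S.Q_cyclic
  refine ⟨isCyclic_of_injective (Subgroup.inclusion h) (Subgroup.inclusion_injective _),
    (isPGroup_Q (H := H)).to_le h, h.trans ?_⟩
  by_contra hnc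
  exact Data.false ⟨S, hnc⟩

end CfsgLib.CyclicInter
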