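import Cfsg.Agent.Lib.Invol.CyclicInter.Basic
import Cfsg.Agent.Lib.ZStar.Main
import Cfsg.Agent.Lib.Core.Coprime
import Mathlib.GroupTheory.Transfer
import Mathlib.GroupTheory.SchurZassenhaus

/-!
Owner: helper16. Nonsolvable groups with `O(G) = 1` in which distinct Sylow 2-subgroups meet in cyclic
groups: the solvable radical is a central cyclic 2-group. The odd order theorem is a hypothesis.
-/

set_option autoImplicit false
set_option linter.unusedSectionVars false
set_option linter.style.haveILetI false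

namespace CfsgLib.CyclicInter

open Subgroup CfsgLib.Signalizer

universe u

/-- Groups of odd order are solvable. -/
def OddSolvable : Prop := ∀ (X : Type u) [Group X] [Finite X], Odd (Nat.card X) → Group.IsSolvable X

/-- The standing hypotheses. -/
structure Setup (H : Type u) [Group H] : Prop where
  odd : OddSolvable.{u}
  ns : ¬ Group.IsSolvable H
  core : Cfsg.oddCore H = ⊥
  inter : ∀ S T : Sylow 2 H, S ≠ T → IsCyclic ↥((S : Subgroup H) ⊓ (T : Subgroup H))

variable {H : Type u} [Group H] [Finite H]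

local notation "Q" => Cfsg.pCore 2 H
local notation "C" => Subgroup.centralizer ((Cfsg.pCore 2 H : Subgroup H) : Set H)

instance : (Cfsg.pCore 2 H).Normal := Subgroup.sSup_normal _ fun _ h => h.1

theorem isPGroup_Q : IsPGroup 2 (Q) := by
  haveI : Fact (Nat.Prime 2) := ⟨Nat.prime_two⟩
  exact CfsgLib.Core.isPGroup_pCore 2 H

theorem Q_le (T : Sylow 2 H) : Q ≤ T := (isPGroup_Q (H := H)).le_sylow_of_normal T

theorem le_Q {N : Subgroup H} [N.Normal] (h : IsPGroup 2 N) : N ≤ Q := le_sSup ⟨inferInstance, h⟩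

/-- A noncyclic subgroup lies in at most one Sylow 2-subgroup. -/
theorem Setup.eq_of_le (S : Setup H) {U : Subgroup H} (hU : ¬ IsCyclic U) {T T' : Sylow 2 H}
    (h1 : U ≤ T) (h2 : U ≤ T') : T = T' := by
  by_contra h
  haveI := S.inter T T' h
  exact hU (isCyclic_of_injective (Subgroup.inclusion (le_inf h1 h2)) (Subgroup.inclusion_injective _))

/-- A 2-element normalising a noncyclic subgroup of a Sylow 2-subgroup lies in that Sylow subgroup. -/
theorem Setup.mem_of_normalizes (S : Setup H) {U : Subgroup H} (hU : ¬ IsCyclic U) {T : Sylow 2 H}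
    (h1 : U ≤ T) {g : H} (hg : IsPGroup 2 (zpowers g)) (h : ∀ u ∈ U, g * u * g⁻¹ ∈ U) : g ∈ T := by
  have hmem : g ∈ normalizer (T : Set H) := by
    rw [← Sylow.smul_eq_iff_mem_normalizer]
    refine (S.eq_of_le hU ?_ h1)
    intro u hu
    have hsurj : ∀ u ∈ U, g⁻¹ * u * g ∈ U := fun u hu => by
      have hm : U.map (MulAut.conj g).toMonoidHom = U := eq_of_le_of_card_ge
        (by rintro _ ⟨v, hv, rfl⟩; exact h v hv)
        (by rw [Subgroup.card_map_of_injective (MulAut.conj g).injective])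
      rw [← hm] at hu
      obtain ⟨v, hv, rfl⟩ := hu
      simpa [MulAut.conj_apply, mul_assoc] using hv
    rw [Sylow.coe_subgroup_smul, Subgroup.mem_pointwise_smul_iff_inv_smul_mem]
    simpa [MulAut.smul_def, MulAut.conj_apply] using h1 (hsurj u hu)
  have h3 : g ∈ zpowers g ⊓ normalizer (T : Set H) := ⟨mem_zpowers g, hmem⟩
  rw [hg.inf_normalizer_sylow T] at h3
  exact h3.2

theorem Setup.exists_ne (S : Setup H) (T : Sylow 2 H) : ∃ T' : Sylow 2 H, T' ≠ T := by
  haveI : Fact (Nat.Prime 2) := ⟨Nat.prime_two⟩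
  by_contra h
  push Not at h
  haveI hn : (T : Subgroup H).Normal := ⟨fun x hx g => by
    have := h (g • T)
    rw [← this, Sylow.coe_subgroup_smul]
    exact ⟨x, hx, rfl⟩⟩
  haveI : Group.IsNilpotent (T : Subgroup H) := T.isPGroup'.isNilpotent
  have hodd : Odd (Nat.card (H ⧸ (T : Subgroup H))) := by
    rw [← Nat.not_even_iff_odd, even_iff_two_dvd]
    exact T.not_dvd_index
  haveI := S.odd _ hodd
  exact S.ns (Group.isSolvable_of_ker_le_range (T : Subgroup H).subtype
    (QuotientGroup.mk' (T : Subgroup H)) (by simp))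

theorem Setup.Q_cyclic (S : Setup H) : IsCyclic Q := by
  haveI : Fact (Nat.Prime 2) := ⟨Nat.prime_two⟩
  obtain ⟨T⟩ : Nonempty (Sylow 2 H) := inferInstance
  obtain ⟨T', hne⟩ := S.exists_ne T
  haveI := S.inter T' T hne
  exact isCyclic_of_injective (Subgroup.inclusion (le_inf (Q_le T') (Q_le T)))
    (Subgroup.inclusion_injective _)

/-- Elements of odd order centralise `Q`. -/
theorem Setup.odd_mem_C (S : Setup H) {g : H} (hg : Odd (orderOf g)) : g ∈ C := by
  haveI : Fact (Nat.Prime 2) := ⟨Nat.prime_two⟩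
  haveI := S.Q_cyclic
  let φ : H →* MulAut Q := MulAut.conjNormal
  obtain ⟨k, hk⟩ := (isPGroup_Q (H := H)).exists_card_eq
  have h1 : orderOf (φ g) ∣ Nat.card (MulAut Q) := orderOf_dvd_natCard _
  rw [IsCyclic.card_mulAut, hk] at h1
  have h2 : orderOf (φ g) = 1 := by
    rcases Nat.eq_zero_or_pos k with rfl | hk0
    · simpa using h1
    rw [Nat.totient_prime_pow Nat.prime_two hk0] at h1
    simp only [Nat.add_one_sub_one, mul_one] at h1
    obtain ⟨i, -, hi⟩ := (Nat.dvd_prime_pow Nat.prime_two).mp h1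
    rcases Nat.eq_zero_or_pos i with rfl | hi0
    · simpa using hi
    · exact absurd ((hi ▸ dvd_pow_self 2 hi0.ne').trans (orderOf_map_dvd φ g))
        (by rw [← even_iff_two_dvd, Nat.not_even_iff_odd]; exact hg)
  rw [orderOf_eq_one_iff] at h2
  refine Subgroup.mem_centralizer_iff.mpr fun q hq => ?_
  have := congrArg (fun σ : MulAut Q => ((σ ⟨q, hq⟩ : Q) : H)) h2
  simp [φ] at this
  calc q * g = g * q * g⁻¹ * g := by rw [this]
    _ = g * q := by group

theorem Setup.mem_of_odd (S : Setup H) {N : Subgroup H} [N.Normal]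
    (hN : ∀ x ∈ N, x ∈ center H) {x : H} (hx : x ∈ N) (hodd : Odd (orderOf x)) : x = 1 := by
  haveI : (zpowers x).Normal := ⟨fun y hy g => by
    rw [mem_center_iff.mp (hN y (zpowers_le.mpr hx hy)) g, mul_inv_cancel_right]; exact hy⟩
  have h := CfsgLib.ZStar.le_oddCore (inferInstance : (zpowers x).Normal) (by rwa [Nat.card_zpowers])
  rw [S.core, le_bot_iff, zpowers_eq_bot] at h
  exact h

/-- A normal solvable subgroup lies in `Q`. -/
theorem Setup.solvable_le (S : Setup H) : ∀ (N : Subgroup H), N.Normal → Group.IsSolvable N → N ≤ Q := by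
  intro N
  induction hn : Nat.card N using Nat.strong_induction_on generalizing N with
  | _ n ih =>
    intro hNn hNs
    subst hn
    haveI := hNn
    haveI : Fact (Nat.Prime 2) := ⟨Nat.prime_two⟩
    by_cases hbot : N = ⊥
    · rw [hbot]; exact bot_le
    have hD : ⁅N, N⁆ < N := by
      refine lt_of_le_of_ne (Subgroup.commutator_le_right N N) fun e => hbot ?_
      by_contra hne
      haveI : Nontrivial N := N.nontrivial_iff_ne_bot.2 hne
      refine ne_of_lt (Group.IsSolvable.commutator_lt_top_of_nontrivial (G := N)) ?_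
      apply Subgroup.map_injective N.subtype_injective
      rw [commutator_def, Subgroup.map_commutator, ← MonoidHom.range_eq_map, N.range_subtype, e]
    have hDQ : ⁅N, N⁆ ≤ Q := ih _ (by
      by_contra h
      exact hD.ne (Subgroup.eq_of_le_of_card_ge hD.le (not_lt.mp h))) _ rfl inferInstance
      (Group.isSolvable_of_isSolvable_injective (f := Subgroup.inclusion hD.le)
        (Subgroup.inclusion_injective _))
    have hodd : ∀ x ∈ N, Odd (orderOf x) → x = 1 := by
      -- such elements are central in `H`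
      let R : Subgroup H := N ⊓ C
      have hcomm : ∀ x ∈ R, Odd (orderOf x) → ∀ y ∈ R, x * y = y * x := by
        intro x hx ho y hy
        set q := x * y * x⁻¹ * y⁻¹ with hq
        have hqQ : q ∈ Q := hDQ (Subgroup.commutator_mem_commutator hx.1 hy.1)
        have hqx : ∀ z ∈ R, z * q = q * z := fun z hz =>
          (Subgroup.mem_centralizer_iff.mp hz.2 q hqQ).symm
        have hcx : Commute x q := hqx x hx
        have key : ∀ n : ℕ, x ^ n * y * (x ^ n)⁻¹ = q ^ n * y := by
          intro n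
          induction n with
          | zero => simp
          | succ n ihn =>
            have h1 : x ^ (n + 1) * y * (x ^ (n + 1))⁻¹ = x * (x ^ n * y * (x ^ n)⁻¹) * x⁻¹ := by
              rw [pow_succ']; group
            rw [h1, ihn, ← mul_assoc, (hcx.pow_right n).eq, pow_succ, hq]
            group
        have h := key (orderOf x)
        rw [pow_orderOf_eq_one, one_mul, inv_one, mul_one, eq_comm, mul_eq_right] at h
        have h1 : orderOf q ∣ orderOf x := orderOf_dvd_of_pow_eq_one h
        obtain ⟨j, hj⟩ := IsPGroup.iff_orderOf.mp (isPGroup_Q (H := H)) ⟨q, hqQ⟩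
        rw [Subgroup.orderOf_mk] at hj
        have h2 : q = 1 := by
          rw [← orderOf_eq_one_iff, hj]
          rcases Nat.eq_zero_or_pos j with rfl | hj0
          · rfl
          · exact absurd ((hj ▸ dvd_pow_self 2 hj0.ne').trans h1)
              (by rw [← even_iff_two_dvd, Nat.not_even_iff_odd]; exact ho)
        calc x * y = q * y * x := by rw [hq]; group
          _ = y * x := by rw [h2, one_mul]
      -- the odd elements of `R` form a normal subgroup
      intro x hx ho
      let O : Subgroup H :=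
        { carrier := {z | z ∈ R ∧ Odd (orderOf z)}
          one_mem' := ⟨one_mem _, by simp⟩
          mul_mem' := fun {a b} ha hb => ⟨mul_mem ha.1 hb.1, by
            have hc : Commute a b := hcomm a ha.1 ha.2 b hb.1
            exact CfsgLib.ZStar.odd_of_dvd hc.orderOf_mul_dvd_mul_orderOf (ha.2.mul hb.2)⟩
          inv_mem' := fun {a} ha => ⟨inv_mem ha.1, by rw [orderOf_inv]; exact ha.2⟩ }
      haveI hOn : O.Normal := ⟨fun z hz g => ⟨(inferInstance : R.Normal).conj_mem z hz.1 g, by
        rw [Signalizer.orderOf_conj]; exact hz.2⟩⟩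
      have hOodd : Odd (Nat.card O) := by
        rw [← Nat.not_even_iff_odd, even_iff_two_dvd]
        intro h2
        obtain ⟨z, hz⟩ := exists_prime_orderOf_dvd_card' (G := O) 2 h2
        have := z.2.2
        rw [Subgroup.orderOf_coe, hz] at this
        exact absurd this (by decide)
      have h := CfsgLib.ZStar.le_oddCore hOn hOodd
      rw [S.core, le_bot_iff] at h
      have hxO : x ∈ O := ⟨⟨hx, S.odd_mem_C ho⟩, ho⟩
      rw [h] at hxO
      exact hxO
    refine le_Q fun g => ?_
    obtain ⟨k, m, hm, hkm⟩ := Nat.exists_eq_pow_mul_and_not_dvd (orderOf_pos (g : H)).ne' 2 (by norm_num)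
    refine ⟨k, Subtype.ext ?_⟩
    simp only [SubmonoidClass.coe_pow, OneMemClass.coe_one]
    apply hodd _ (pow_mem g.2 _)
    have : orderOf ((g : H) ^ 2 ^ k) ∣ m := orderOf_dvd_of_pow_eq_one (by
      rw [← pow_mul, ← hkm, pow_orderOf_eq_one])
    refine CfsgLib.ZStar.odd_of_dvd this ?_
    rw [← Nat.not_even_iff_odd, even_iff_two_dvd]
    exact hm

/-- The conjugate of an element in a Sylow subgroup lies in the conjugate Sylow subgroup. -/
theorem mem_smul_sylow {T : Sylow 2 H} {x : H} (hx : x ∈ T) (g : H) : g * x * g⁻¹ ∈ g • T := by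
  show g * x * g⁻¹ ∈ ((g • T : Sylow 2 H) : Subgroup H)
  rw [Sylow.coe_subgroup_smul, Subgroup.mem_pointwise_smul_iff_inv_smul_mem]
  simp only [MulAut.smul_def, map_inv, MulAut.conj_inv_apply]
  have hx' : x ∈ (T : Subgroup H) := hx
  simpa [mul_assoc] using hx'

theorem inv_eq_self_of_two {t : H} (ht : orderOf t = 2) : t⁻¹ = t :=
  Signalizer.involution_inv ht

/-- A 2-element normalising a noncyclic subgroup, for an involution. -/
theorem isPGroup_zpowers_of_two {t : H} (ht : orderOf t = 2) : IsPGroup 2 (zpowers t) := by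
  haveI : Fact (Nat.Prime 2) := ⟨Nat.prime_two⟩
  exact IsPGroup.of_card (n := 1) (by rw [Nat.card_zpowers, ht, pow_one])

theorem isPGroup_zpowers_of_sq {e : H} (he : e ^ 2 ∈ Q) : IsPGroup 2 (zpowers e) := by
  haveI : Fact (Nat.Prime 2) := ⟨Nat.prime_two⟩
  obtain ⟨j, hj⟩ := IsPGroup.iff_orderOf.mp (isPGroup_Q (H := H)) ⟨e ^ 2, he⟩
  rw [Subgroup.orderOf_mk] at hj
  have h : orderOf e ∣ 2 ^ (j + 1) := orderOf_dvd_of_pow_eq_one (by
    rw [pow_succ', pow_mul, ← hj, pow_orderOf_eq_one])
  obtain ⟨i, -, hi⟩ := (Nat.dvd_prime_pow Nat.prime_two).mp h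
  exact IsPGroup.of_card (n := i) (by rw [Nat.card_zpowers, hi])

theorem mem_normalizer_sylow {T : Sylow 2 H} {g : H} (h : g • T = T) : g ∈ normalizer (T : Set H) :=
  Sylow.smul_eq_iff_mem_normalizer.mp h

/-- The standing assumption for the centrality argument. -/
structure Data (H : Type u) [Group H] : Prop extends Setup H where
  noncentral : ¬ Cfsg.pCore 2 H ≤ center H

namespace Data

variable (D : Data H)
include D

theorem Q_ne_bot : (Q : Subgroup H) ≠ ⊥ := fun h => D.noncentral (h.le.trans bot_le)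

theorem exists_z : ∃ z ∈ Q, orderOf z = 2 := by
  haveI : Fact (Nat.Prime 2) := ⟨Nat.prime_two⟩
  haveI : Nontrivial (Q : Subgroup H) := (Q : Subgroup H).nontrivial_iff_ne_bot.2 D.Q_ne_bot
  obtain ⟨k, hk0, hk⟩ := (isPGroup_Q (H := H)).nontrivial_iff_card.1 this
  obtain ⟨z, hz⟩ := exists_prime_orderOf_dvd_card' (G := (Q : Subgroup H)) 2 (hk ▸ dvd_pow_self 2 hk0.ne')
  exact ⟨z, z.2, by rw [Subgroup.orderOf_coe, hz]⟩

theorem exists_four : ∃ c ∈ Q, c ^ 2 ≠ 1 := by
  by_contra h
  push Not at h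
  obtain ⟨z, hzQ, hz⟩ := D.exists_z
  have huniq : ∀ q ∈ Q, q ≠ 1 → q = z := fun q hq hq1 => by
    haveI : Fact (Nat.Prime 2) := ⟨Nat.prime_two⟩
    by_contra hne
    exact not_isCyclic_of_two_involutions hq hzQ (orderOf_eq_prime (h q hq) hq1) hz hne D.Q_cyclic
  refine D.noncentral fun q hq => mem_center_iff.mpr fun g => ?_
  by_cases hq1 : q = 1
  · simp [hq1]
  have h1 : g * q * g⁻¹ = q := by
    rw [huniq (g * q * g⁻¹) ((inferInstance : (Q : Subgroup H).Normal).conj_mem q hq g)
      (fun e => hq1 (conj_eq_one_iff.mp e)), huniq q hq hq1]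
  calc g * q = g * q * g⁻¹ * g := by group
    _ = q * g := by rw [h1]

/-- `Q` and an involution outside generate a noncyclic subgroup. -/
theorem not_cyclic_sup {s : H} (hs : orderOf s = 2) (hsQ : s ∉ Q) : ¬ IsCyclic ↥(Q ⊔ zpowers s) := by
  obtain ⟨z, hzQ, hz⟩ := D.exists_z
  exact not_isCyclic_of_two_involutions (mem_sup_left hzQ) (mem_sup_right (mem_zpowers s)) hz hs
    (fun e => hsQ (e ▸ hzQ))

theorem sylow_eq {T T' : Sylow 2 H} {s : H} (hs : orderOf s = 2) (hsQ : s ∉ Q) (h1 : s ∈ T)
    (h2 : s ∈ T') : T = T' :=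
  D.eq_of_le (D.not_cyclic_sup hs hsQ) (sup_le (Q_le T) (zpowers_le.mpr h1))
    (sup_le (Q_le T') (zpowers_le.mpr h2))

theorem C_ne_top : C ≠ ⊤ := fun h => D.noncentral fun q hq => mem_center_iff.mpr fun g =>
  (mem_centralizer_iff.mp ((le_of_eq h.symm) (mem_top g)) q hq).symm

/-- A subgroup containing `C` and a Sylow 2-subgroup is everything. -/
theorem eq_top_of_le {M : Subgroup H} {T : Sylow 2 H} (hC : C ≤ M) (hT : (T : Subgroup H) ≤ M) :
    M = ⊤ := by
  rw [← index_eq_one]
  by_contra h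
  obtain ⟨p, hp, hpd⟩ := Nat.exists_prime_and_dvd h
  haveI := Fact.mk hp
  rcases eq_or_ne p 2 with rfl | hp2
  · exact T.not_dvd_index (hpd.trans (Subgroup.index_dvd_of_le hT))
  · obtain ⟨P⟩ : Nonempty (Sylow p H) := inferInstance
    refine P.not_dvd_index (hpd.trans (Subgroup.index_dvd_of_le fun x hx => hC (D.odd_mem_C ?_)))
    obtain ⟨k, hk⟩ := IsPGroup.iff_orderOf.mp P.isPGroup' ⟨x, hx⟩
    rw [Subgroup.orderOf_mk] at hk
    rw [hk]
    exact (hp.odd_of_ne_two hp2).pow

/-- No element outside `C` squares into `Q`, once `C` has an involution outside `Q`. -/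
theorem no_square {s : H} (hs : orderOf s = 2) (hsQ : s ∉ Q) (hsC : s ∈ C)
    {y : H} (hyC : y ∉ C) (hy : y ^ 2 ∈ Q) : False := by
  haveI : Fact (Nat.Prime 2) := ⟨Nat.prime_two⟩
  obtain ⟨T, hT⟩ := (isPGroup_zpowers_of_sq hy).exists_le_sylow
  have hyT : y ∈ T := hT (mem_zpowers y)
  let π := QuotientGroup.mk' (Q : Subgroup H)
  -- every such involution lies in `T`
  have key : ∀ t : H, orderOf t = 2 → t ∉ Q → t ∈ C → t ∈ T := by
    intro t ht htQ htC
    set d := y * t with hd
    have hdC : d ∉ C := fun h => hyC (by simpa [hd] using mul_mem h (inv_mem htC))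
    have hd2 : d ^ 2 ∈ C := by
      have h1 : y * t * y⁻¹ ∈ C := (inferInstance : (C : Subgroup H).Normal).conj_mem t htC y
      have h2 : y ^ 2 ∈ C := mem_centralizer_iff.mpr fun q hq => by
        haveI := D.Q_cyclic
        exact congrArg Subtype.val (IsMulCommutative.is_comm.comm
          (⟨q, hq⟩ : (Q : Subgroup H)) ⟨y ^ 2, hy⟩)
      have : d ^ 2 = (y * t * y⁻¹) * y ^ 2 * t := by rw [hd, pow_two, pow_two]; group
      rw [this]
      exact mul_mem (mul_mem h1 h2) htC
    have hQC : ∀ q ∈ Q, q ∈ C := fun q hq => mem_centralizer_iff.mpr fun r hr => by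
      haveI := D.Q_cyclic
      exact congrArg Subtype.val (IsMulCommutative.is_comm.comm
        (⟨r, hr⟩ : (Q : Subgroup H)) ⟨q, hq⟩)
    set n := orderOf (π d) with hn
    have hdn : d ^ n ∈ Q := (QuotientGroup.eq_one_iff _).mp (by
      show π (d ^ n) = 1
      rw [map_pow, hn, pow_orderOf_eq_one])
    obtain ⟨k, hk⟩ : 2 ∣ n := by
      by_contra h
      have : n = 2 * (n / 2) + 1 := by omega
      rw [this, pow_succ, pow_mul] at hdn
      exact hdC (by simpa using mul_mem (inv_mem (pow_mem hd2 (n / 2))) (hQC _ hdn))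
    have hnpos : 0 < n := orderOf_pos (π d)
    set e := d ^ k with he
    have heQ : e ∉ Q := fun h => by
      have h1 : π d ^ k = 1 := by
        rw [← map_pow]
        exact (QuotientGroup.eq_one_iff _).mpr h
      have := Nat.le_of_dvd (by omega) (orderOf_dvd_of_pow_eq_one h1)
      omega
    have he2 : e ^ 2 ∈ Q := by rw [he, ← pow_mul, mul_comm, ← hk]; exact hdn
    set U := Q ⊔ zpowers e with hU
    have hUp : IsPGroup 2 U := (isPGroup_Q (H := H)).to_sup_of_normal_left (isPGroup_zpowers_of_sq he2)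
    have hUnc : ¬ IsCyclic U := by
      intro hc
      rcases le_or_le hc hUp le_sup_left (zpowers_le.mpr (mem_sup_right (mem_zpowers e))) with h | h
      · refine hdC (mem_centralizer_iff.mpr fun q hq => ?_)
        obtain ⟨i, hi⟩ := mem_zpowers_iff.mp (h hq)
        rw [← hi, he]
        exact ((Commute.refl d).pow_left k).zpow_left i
      · exact heQ (h (mem_zpowers e))
    obtain ⟨TU, hTU⟩ := hUp.exists_le_sylow
    -- both involutions of the quotient invert `d`, hence fix `e` there
    have hnorm : ∀ g : H, π g * π d * (π g)⁻¹ = (π d)⁻¹ → ∀ u ∈ U, g * u * g⁻¹ ∈ U := by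
      intro g hg u hu
      have hge : g * e * g⁻¹ ∈ U := by
        have h1 : π (g * e * g⁻¹) = π e := by
          rw [map_mul, map_mul, map_inv, he, map_pow, ← conj_pow, hg, inv_pow, inv_eq_iff_mul_eq_one,
            ← pow_add, ← two_mul, ← hk, hn, pow_orderOf_eq_one]
        have h2 : e⁻¹ * (g * e * g⁻¹) ∈ Q := (QuotientGroup.eq_one_iff _).mp (by
          show π (e⁻¹ * (g * e * g⁻¹)) = 1
          rw [map_mul, map_inv, h1, inv_mul_cancel])
        simpa [mul_assoc] using mul_mem (mem_sup_right (mem_zpowers e) : e ∈ U) (mem_sup_left h2)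
      have hle : U.map (MulAut.conj g).toMonoidHom ≤ U := by
        rw [hU, Subgroup.map_sup, sup_le_iff]
        refine ⟨?_, ?_⟩
        · rintro _ ⟨q, hq, rfl⟩
          exact mem_sup_left ((inferInstance : (Q : Subgroup H).Normal).conj_mem q hq g)
        · rw [MonoidHom.map_zpowers, zpowers_le]
          exact hge
      exact hle ⟨u, hu, rfl⟩
    have hy1 : π y * π y = 1 := by
      rw [← map_mul, ← pow_two]; exact (QuotientGroup.eq_one_iff _).mpr hy
    have ht1 : π t * π t = 1 := by
      rw [← map_mul, Signalizer.involution_sq ht, map_one]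
    have hiy : (π y)⁻¹ = π y := inv_eq_of_mul_eq_one_right hy1
    have hit : (π t)⁻¹ = π t := inv_eq_of_mul_eq_one_right ht1
    have hyU : y ∈ TU := D.mem_of_normalizes hUnc hTU (isPGroup_zpowers_of_sq hy) (hnorm y (by
      rw [hd, map_mul, mul_inv_rev, hit, hiy, ← mul_assoc, hy1, one_mul]))
    have htU : t ∈ TU := D.mem_of_normalizes hUnc hTU (isPGroup_zpowers_of_two ht) (hnorm t (by
      rw [hd, map_mul, mul_inv_rev, hit, hiy, mul_assoc, mul_assoc, ht1, mul_one]))
    -- `⟨Q, y⟩` lies in one Sylow subgroup only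
    have hync : ¬ IsCyclic ↥(Q ⊔ zpowers y) := fun hc => hyC (mem_centralizer_iff.mpr fun q hq =>
      congrArg Subtype.val (IsMulCommutative.is_comm.comm
        (⟨q, mem_sup_left hq⟩ : ↥(Q ⊔ zpowers y)) ⟨y, mem_sup_right (mem_zpowers y)⟩))
    rw [D.eq_of_le hync (sup_le (Q_le T) hT) (sup_le (Q_le TU) (zpowers_le.mpr hyU))]
    exact htU
  obtain ⟨T', hne⟩ := D.exists_ne T
  obtain ⟨g, rfl⟩ := MulAction.exists_smul_eq H T T'
  have hgs : orderOf (g * s * g⁻¹) = 2 := by rw [Signalizer.orderOf_conj, hs]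
  have hgQ : g * s * g⁻¹ ∉ Q := fun h => hsQ (by
    simpa [mul_assoc] using (inferInstance : (Q : Subgroup H).Normal).conj_mem _ h g⁻¹)
  exact hne (D.sylow_eq hgs hgQ (mem_smul_sylow (key s hs hsQ hsC) g)
    (key _ hgs hgQ ((inferInstance : (C : Subgroup H).Normal).conj_mem s hsC g)))

/-- Involutions of `C` in different Sylow 2-subgroups have product of odd order modulo `Q`. -/
theorem odd_prod {s t : H} (hs : orderOf s = 2) (hsQ : s ∉ Q) (hsC : s ∈ C)
    (ht : orderOf t = 2) (htQ : t ∉ Q) (htC : t ∈ C) {T T' : Sylow 2 H} (hsT : s ∈ T) (htT : t ∈ T')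
    (hne : T ≠ T') : Odd (orderOf (QuotientGroup.mk' (Q : Subgroup H) (s * t))) := by
  haveI : Fact (Nat.Prime 2) := ⟨Nat.prime_two⟩
  let π := QuotientGroup.mk' (Q : Subgroup H)
  rw [← Nat.not_even_iff_odd, even_iff_two_dvd]
  rintro ⟨k, hk⟩
  set n := orderOf (π (s * t)) with hn
  have hnpos : 0 < n := orderOf_pos _
  set e := (s * t) ^ k with he
  have hdn : (s * t) ^ n ∈ Q := (QuotientGroup.eq_one_iff _).mp (by
    show π ((s * t) ^ n) = 1
    rw [map_pow, hn, pow_orderOf_eq_one])
  have heQ : e ∉ Q := fun h => by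
    have h1 : π (s * t) ^ k = 1 := by rw [← map_pow]; exact (QuotientGroup.eq_one_iff _).mpr h
    have := Nat.le_of_dvd (by omega) (orderOf_dvd_of_pow_eq_one h1)
    omega
  have he2 : e ^ 2 ∈ Q := by rw [he, ← pow_mul, mul_comm, ← hk]; exact hdn
  have hes : s * e * s⁻¹ = e⁻¹ := by
    rw [he, ← conj_pow, ← inv_pow, mul_inv_rev, inv_eq_self_of_two ht, inv_eq_self_of_two hs,
      ← mul_assoc s s, Signalizer.involution_sq hs, one_mul]
  have het : t * e * t⁻¹ = e⁻¹ := by
    rw [he, ← conj_pow, ← inv_pow, mul_inv_rev, inv_eq_self_of_two ht, inv_eq_self_of_two hs,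
      mul_assoc, mul_assoc, Signalizer.involution_sq ht, mul_one]
  set U := Q ⊔ zpowers e with hU
  have hUp : IsPGroup 2 U := (isPGroup_Q (H := H)).to_sup_of_normal_left (isPGroup_zpowers_of_sq he2)
  have hUnc : ¬ IsCyclic U := by
    intro hc
    rcases le_or_le hc hUp le_sup_left (zpowers_le.mpr (mem_sup_right (mem_zpowers e))) with h | h
    · -- `e` has order at most four
      have h4 : e ^ 4 = 1 := by
        have hfix : s * e ^ 2 * s⁻¹ = e ^ 2 := by
          rw [← mem_centralizer_iff.mp hsC (e ^ 2) he2, mul_inv_cancel_right]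
        rw [← conj_pow, hes, inv_pow, inv_eq_iff_mul_eq_one, ← pow_add] at hfix
        exact hfix
      obtain ⟨c, hcQ, hc⟩ := D.exists_four
      haveI : Finite (zpowers e) := inferInstance
      have hcard : Nat.card (Q : Subgroup H) < Nat.card (zpowers e) := by
        rcases (Subgroup.card_le_of_le h).lt_or_eq with h1 | h1
        · exact h1
        · exact absurd (mem_zpowers e) (fun hm => heQ ((Subgroup.eq_of_le_of_card_ge h h1.ge).symm ▸ hm))
      have hc4 : 4 ≤ Nat.card (Q : Subgroup H) := by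
        obtain ⟨j, hj⟩ := IsPGroup.iff_orderOf.mp (isPGroup_Q (H := H)) ⟨c, hcQ⟩
        rw [Subgroup.orderOf_mk] at hj
        have h2 : 2 ≤ j := by
          by_contra hlt
          exact hc (orderOf_dvd_iff_pow_eq_one.mp (hj ▸ pow_dvd_pow 2 (by omega : j ≤ 1)))
        calc 4 = 2 ^ 2 := rfl
          _ ≤ 2 ^ j := Nat.pow_le_pow_right two_pos h2
          _ ≤ _ := hj ▸ Nat.le_of_dvd Nat.card_pos (Subgroup.orderOf_dvd_natCard _ hcQ)
      have := Nat.le_of_dvd (by norm_num) (orderOf_dvd_of_pow_eq_one h4)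
      rw [Nat.card_zpowers] at hcard
      omega
    · exact heQ (h (mem_zpowers e))
  obtain ⟨TU, hTU⟩ := hUp.exists_le_sylow
  have hnorm : ∀ g : H, g * e * g⁻¹ = e⁻¹ → ∀ u ∈ U, g * u * g⁻¹ ∈ U := by
    intro g hg u hu
    have hle : U.map (MulAut.conj g).toMonoidHom ≤ U := by
      rw [hU, Subgroup.map_sup, sup_le_iff]
      refine ⟨?_, ?_⟩
      · rintro _ ⟨q, hq, rfl⟩
        exact mem_sup_left ((inferInstance : (Q : Subgroup H).Normal).conj_mem q hq g)
      · rw [MonoidHom.map_zpowers, zpowers_le]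
        show g * e * g⁻¹ ∈ _
        rw [hg]
        exact mem_sup_right (inv_mem (mem_zpowers e))
    exact hle ⟨u, hu, rfl⟩
  exact hne ((D.sylow_eq hs hsQ hsT
    (D.mem_of_normalizes hUnc hTU (isPGroup_zpowers_of_two hs) (hnorm s hes))).trans
    (D.sylow_eq ht htQ htT (D.mem_of_normalizes hUnc hTU (isPGroup_zpowers_of_two ht) (hnorm t het))).symm)

end Data

end CfsgLib.CyclicInter
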